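import Mathlib
import Groth.Prelude.Def_SGA3
import Groth.Agent.Lib.Helper24.HopfFF.Torsor

/-!
# Helper24 — points of a commutative Hopf algebra: ideals killed by points, normality of Hopf ideals
in terms of points
-/

set_option autoImplicit false
universe u v w

open TensorProduct Coalgebra Bialgebra WithConv
open Groth.Agent.Lib.Helper24.HopfFF (precomp postcomp inv' inv'_mul)

namespace Groth.Agent.Lib.Helper24.HopfNormal

section group

variable {k : Type u} [CommRing k] {A : Type v} [CommRing A] [HopfAlgebra k A]
  {R : Type w} [CommRing R] [Algebra k R]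

/-- inverse of a point: precomposition with the antipode (high priority so that it is always
chosen over Mathlib's instance, which asks the target to be a bialgebra) -/
noncomputable instance (priority := 2000) convInv' : Inv (WithConv (A →ₐ[k] R)) :=
  ⟨fun f => toConv (f.ofConv.comp (HopfAlgebra.antipodeAlgHom k A))⟩

/-- the group of `R`-points of a commutative Hopf algebra (Mathlib only has this when `R` is itself a
bialgebra) -/
noncomputable instance (priority := 2000) convGroup' : Group (WithConv (A →ₐ[k] R)) :=
  { (inferInstance : Monoid (WithConv (A →ₐ[k] R))), (convInv' : Inv (WithConv (A →ₐ[k] R))) with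
    inv_mul_cancel := inv'_mul }

end group

section kills

variable {k : Type u} [CommRing k] {A : Type v} [CommRing A] [HopfAlgebra k A]
  {R : Type w} [CommRing R] [Algebra k R]

/-- the point `g` kills the ideal `I` (is a point of the closed subscheme `V(I)`) -/
def Kills (I : Ideal A) (g : WithConv (A →ₐ[k] R)) : Prop := ∀ a ∈ I, g.ofConv a = 0

theorem inv_apply (g : WithConv (A →ₐ[k] R)) (a : A) :
    (g⁻¹).ofConv a = g.ofConv (HopfAlgebra.antipode k a) := rfl

theorem mul_apply_of_comul (g h : WithConv (A →ₐ[k] R)) (a : A) :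
    (g * h).ofConv a =
      Algebra.TensorProduct.lift g.ofConv h.ofConv (fun _ _ => Commute.all _ _) (comul (R := k) a) :=
  AlgHom.convMul_apply g h a

variable (I : Ideal A) [I.IsHopfIdeal k]

theorem kills_iff_mem_range (g : WithConv (A →ₐ[k] R)) :
    Kills I g ↔ g ∈ (precomp (T := R) (Bialgebra.Quotient.mkBialgHom (R := k) I)).range := by
  constructor
  · intro h
    refine ⟨toConv (Ideal.Quotient.liftₐ I g.ofConv h), ?_⟩
    apply WithConv.ofConv_injective
    refine AlgHom.ext fun a => ?_
    rfl
  · rintro ⟨gbar, rfl⟩ a ha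
    change gbar.ofConv (Ideal.Quotient.mk I a) = 0
    rw [Ideal.Quotient.eq_zero_iff_mem.2 ha, map_zero]

variable {I}

theorem Kills.exists_lift {g : WithConv (A →ₐ[k] R)} (h : Kills I g) :
    ∃ gbar : WithConv ((A ⧸ I) →ₐ[k] R),
      precomp (Bialgebra.Quotient.mkBialgHom (R := k) I) gbar = g :=
  (kills_iff_mem_range I g).1 h

variable (I)

theorem kills_one : Kills I (1 : WithConv (A →ₐ[k] R)) :=
  (kills_iff_mem_range I _).2 (one_mem _)

variable {I}

theorem Kills.mul {g h : WithConv (A →ₐ[k] R)} (hg : Kills I g) (hh : Kills I h) :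
    Kills I (g * h) :=
  (kills_iff_mem_range I _).2
    (mul_mem ((kills_iff_mem_range I _).1 hg) ((kills_iff_mem_range I _).1 hh))

theorem Kills.inv {g : WithConv (A →ₐ[k] R)} (hg : Kills I g) : Kills I g⁻¹ :=
  (kills_iff_mem_range I _).2 (inv_mem ((kills_iff_mem_range I _).1 hg))

omit [I.IsHopfIdeal k] in
theorem Kills.postcomp {R' : Type*} [CommRing R'] [Algebra k R'] (φ : R →ₐ[k] R')
    {g : WithConv (A →ₐ[k] R)} (hg : Kills I g) : Kills I (postcomp φ g) := by
  intro a ha
  change φ (g.ofConv a) = 0
  rw [hg a ha, map_zero]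

end kills

section normal

/-- normality of a Hopf ideal in terms of points (all in one universe) -/
def NormalPts (k : Type u) {A : Type u} [CommRing k] [CommRing A] [HopfAlgebra k A]
    (I : Ideal A) : Prop :=
  ∀ (R : Type u) [CommRing R] [Algebra k R] (g n : WithConv (A →ₐ[k] R)),
    Kills I n → Kills I (g * n * g⁻¹)

theorem conv3_eq {k A R : Type u} [CommRing k] [CommRing A] [HopfAlgebra k A] [CommRing R]
    [Algebra k R] (f g h : A →ₐ[k] R) :
    Dyn.conv3 k A f g h = (toConv f * toConv g * toConv h : WithConv (A →ₐ[k] R)).ofConv := by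
  unfold Dyn.conv3
  rw [AlgHom.convMul_def, AlgHom.convMul_def]
  simp only [ofConv_toConv]
  have h1 : Algebra.TensorProduct.map
      ((Algebra.TensorProduct.lmul' k).comp ((Algebra.TensorProduct.map f g).comp
        (Bialgebra.comulAlgHom k A))) h =
      (Algebra.TensorProduct.map ((Algebra.TensorProduct.lmul' (S := R) k).comp
        (Algebra.TensorProduct.map f g)) h).comp
        (Algebra.TensorProduct.map (Bialgebra.comulAlgHom k A) (AlgHom.id k A)) := by
    rw [← Algebra.TensorProduct.map_comp, AlgHom.comp_id, AlgHom.comp_assoc]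
  rw [h1]
  rfl

theorem normalPts_iff {k A : Type u} [CommRing k] [CommRing A] [HopfAlgebra k A] (I : Ideal A) :
    SGA3.IsNormalHopfIdeal k A I ↔ NormalPts k I := by
  constructor
  · intro h R _ _ g n hn a ha
    have := h R g.ofConv n.ofConv hn a ha
    rw [conv3_eq] at this
    exact this
  · intro h R _ _ g n hn a ha
    rw [conv3_eq]
    exact h R (toConv g) (toConv n) hn a ha

end normal

end Groth.Agent.Lib.Helper24.HopfNormal
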