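import Mathlib
import Groth.Agent.Lib.Helper24.HopfNormal.Points

/-!
# Helper24 — coinvariants of a commutative Hopf algebra `A` under a quotient Hopf algebra
`π : A → C` (functions on `G = Spec A` invariant under right translation by the closed subgroup
`N = Spec C`)
-/

set_option autoImplicit false
universe u v w

open TensorProduct Coalgebra Bialgebra WithConv
open Groth.Agent.Lib.Helper24.HopfFF (precomp postcomp)

namespace Groth.Agent.Lib.Helper24.HopfNormal

section general

variable {k : Type u} [CommRing k] {A : Type v} [CommRing A] [HopfAlgebra k A]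

/-- `(f ⊗ h) ∘ Δ` as a product of points -/
theorem map_comp_comul {T₁ : Type*} {T₂ : Type*} [CommRing T₁] [Algebra k T₁] [CommRing T₂]
    [Algebra k T₂] (f : A →ₐ[k] T₁) (h : A →ₐ[k] T₂) :
    toConv ((Algebra.TensorProduct.map f h).comp (comulAlgHom k A)) =
      toConv ((Algebra.TensorProduct.includeLeft : T₁ →ₐ[k] T₁ ⊗[k] T₂).comp f) *
        toConv ((Algebra.TensorProduct.includeRight : T₂ →ₐ[k] T₁ ⊗[k] T₂).comp h) := by
  rw [AlgHom.convMul_def]
  simp only [ofConv_toConv]
  have h1 : (Algebra.TensorProduct.lmul' (S := T₁ ⊗[k] T₂) k).comp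
      (Algebra.TensorProduct.map
        ((Algebra.TensorProduct.includeLeft : T₁ →ₐ[k] T₁ ⊗[k] T₂).comp f)
        ((Algebra.TensorProduct.includeRight : T₂ →ₐ[k] T₁ ⊗[k] T₂).comp h)) =
      Algebra.TensorProduct.map f h := by
    ext <;> simp
  rw [← AlgHom.comp_assoc, h1]

end general

section coinv

variable {k : Type u} {A C : Type u} [CommRing k] [CommRing A] [HopfAlgebra k A] [CommRing C]
  [HopfAlgebra k C] (π : A →ₐc[k] C)

/-- `a ↦ a₁ ⊗ π(a₂)` -/
noncomputable def alpha : A →ₐ[k] A ⊗[k] C :=
  (Algebra.TensorProduct.map (AlgHom.id k A) (π : A →ₐ[k] C)).comp (comulAlgHom k A)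

/-- `a ↦ a ⊗ 1` -/
noncomputable def beta : A →ₐ[k] A ⊗[k] C := Algebra.TensorProduct.includeLeft

/-- the universal point of `G` -/
noncomputable def g₀ : WithConv (A →ₐ[k] A ⊗[k] C) :=
  toConv Algebra.TensorProduct.includeLeft

/-- the universal point of `N` -/
noncomputable def n₀ : WithConv (C →ₐ[k] A ⊗[k] C) :=
  toConv Algebra.TensorProduct.includeRight

theorem alpha_eq : toConv (alpha π) = g₀ (A := A) (C := C) * precomp π n₀ := by
  have h := map_comp_comul (k := k) (AlgHom.id k A) (π : A →ₐ[k] C)
  rw [AlgHom.comp_id] at h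
  exact h

/-- the subalgebra of right `N`-invariant functions -/
noncomputable def coinv : Subalgebra k A := AlgHom.equalizer (alpha π) (beta (k := k) (C := C))

theorem mem_coinv {a : A} : a ∈ coinv π ↔ alpha π a = beta (k := k) (C := C) a := Iff.rfl

/-- characterization of coinvariants by points -/
theorem mem_coinv_iff {a : A} :
    a ∈ coinv π ↔ ∀ (R : Type u) [CommRing R] [Algebra k R] (g : WithConv (A →ₐ[k] R))
      (n : WithConv (C →ₐ[k] R)), (g * precomp π n).ofConv a = g.ofConv a := by
  constructor
  · intro ha R _ _ g n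
    let φ : A ⊗[k] C →ₐ[k] R :=
      Algebra.TensorProduct.lift g.ofConv n.ofConv (fun _ _ => Commute.all _ _)
    have h1 : postcomp φ (g₀ (A := A) (C := C)) = g := by
      apply WithConv.ofConv_injective
      refine AlgHom.ext fun x => ?_
      change φ (x ⊗ₜ[k] 1) = _
      simp [φ]
    have h2 : postcomp φ (n₀ (A := A) (C := C)) = n := by
      apply WithConv.ofConv_injective
      refine AlgHom.ext fun x => ?_
      change φ (1 ⊗ₜ[k] x) = _
      simp [φ]
    have h3 : postcomp φ (precomp π (n₀ (A := A) (C := C))) = precomp π n := by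
      rw [← h2]
      rfl
    rw [← h1, ← h3, ← map_mul, ← alpha_eq]
    change φ (alpha π a) = φ (beta a)
    rw [(mem_coinv π).1 ha]
  · intro h
    have := h (A ⊗[k] C) g₀ n₀
    rw [← alpha_eq] at this
    exact this

/-- normality of the closed subgroup `N = Spec C` of `G = Spec A`, in terms of points -/
def NormalP : Prop :=
  ∀ (R : Type u) [CommRing R] [Algebra k R] (g : WithConv (A →ₐ[k] R))
    (n : WithConv (C →ₐ[k] R)), g * precomp π n * g⁻¹ ∈ (precomp (T := R) π).range

end coinv

end Groth.Agent.Lib.Helper24.HopfNormal
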