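import Mathlib
import Groth.Agent.Lib.Helper24.HopfNormal.Coinv
import Groth.Agent.Lib.Helper24.HopfFF.SubHopf

/-!
# Helper24 — for a normal Hopf ideal `I`, the coinvariants `A^{co A/I}` form a sub-Hopf-algebra
-/

set_option autoImplicit false
universe u v w

open TensorProduct Coalgebra Bialgebra WithConv
open Groth.Agent.Lib.Helper24.HopfFF (precomp postcomp)

namespace Groth.Agent.Lib.Helper24.HopfNormal

section linalg

variable {k : Type u} [Field k] {V : Type v} [AddCommGroup V] [Module k V]

/-- `(W ⊗ V) ∩ (V ⊗ W) = W ⊗ W` over a field -/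
theorem mem_range_map_of_mem (W : Submodule k V) (x : V ⊗[k] V)
    (h1 : x ∈ LinearMap.range (LinearMap.lTensor V W.subtype))
    (h2 : x ∈ LinearMap.range (LinearMap.rTensor V W.subtype)) :
    x ∈ LinearMap.range (TensorProduct.map W.subtype W.subtype) := by
  obtain ⟨r, hr⟩ := W.subtype.exists_leftInverse_of_injective (Submodule.ker_subtype W)
  obtain ⟨z, rfl⟩ := h1
  obtain ⟨y, hy⟩ := h2
  refine ⟨LinearMap.rTensor W r z, ?_⟩
  have e1 : TensorProduct.map W.subtype W.subtype ∘ₗ LinearMap.rTensor W r =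
      LinearMap.rTensor V (W.subtype ∘ₗ r) ∘ₗ LinearMap.lTensor V W.subtype := by
    apply TensorProduct.ext'
    intro a b
    simp
  have e2 : LinearMap.rTensor V (W.subtype ∘ₗ r) ∘ₗ LinearMap.rTensor V W.subtype =
      LinearMap.rTensor V W.subtype := by
    rw [← LinearMap.rTensor_comp, LinearMap.comp_assoc, hr, LinearMap.comp_id]
  calc TensorProduct.map W.subtype W.subtype (LinearMap.rTensor W r z)
      = (TensorProduct.map W.subtype W.subtype ∘ₗ LinearMap.rTensor W r) z := rfl
    _ = LinearMap.rTensor V (W.subtype ∘ₗ r) (LinearMap.lTensor V W.subtype z) := by rw [e1]; rfl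
    _ = LinearMap.rTensor V (W.subtype ∘ₗ r) (LinearMap.rTensor V W.subtype y) := by rw [hy]
    _ = (LinearMap.rTensor V (W.subtype ∘ₗ r) ∘ₗ LinearMap.rTensor V W.subtype) y := rfl
    _ = LinearMap.rTensor V W.subtype y := by rw [e2]
    _ = LinearMap.lTensor V W.subtype z := hy

end linalg

section hopf

variable {k : Type u} {A C : Type u} [Field k] [CommRing A] [HopfAlgebra k A] [CommRing C]
  [HopfAlgebra k C] (π : A →ₐc[k] C)

theorem mem_coinv_left (hN : NormalP π) {a : A} (ha : a ∈ coinv π)
    (R : Type u) [CommRing R] [Algebra k R] (g : WithConv (A →ₐ[k] R))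
    (n : WithConv (C →ₐ[k] R)) :
    (precomp π n * g).ofConv a = g.ofConv a := by
  obtain ⟨n', hn'⟩ := hN R g⁻¹ n
  have h1 : precomp π n * g = g * (g⁻¹ * precomp π n * g⁻¹⁻¹) := by group
  rw [h1, ← hn']
  exact (mem_coinv_iff π).1 ha R g n'

theorem antipode_mem_coinv (hN : NormalP π) {a : A} (ha : a ∈ coinv π) :
    HopfAlgebra.antipode k a ∈ coinv π := by
  rw [mem_coinv_iff]
  intro R _ _ g n
  rw [← inv_apply, ← inv_apply, mul_inv_rev, ← map_inv]
  exact mem_coinv_left π hN ha R g⁻¹ n⁻¹

/-- the difference `α - β` as a linear map -/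
noncomputable def psi : A →ₗ[k] A ⊗[k] C :=
  (alpha π).toLinearMap - (beta (k := k) (C := C)).toLinearMap

theorem exact_psi :
    Function.Exact (Subalgebra.toSubmodule (coinv π)).subtype (psi π) := by
  intro a
  constructor
  · intro h
    refine ⟨⟨a, ?_⟩, rfl⟩
    change alpha π a = beta a
    exact sub_eq_zero.1 (h : alpha π a - beta a = 0)
  · rintro ⟨⟨b, hb⟩, rfl⟩
    exact (sub_eq_zero.2 hb : alpha π b - beta b = 0)

theorem coinv_mul_mid (hN : NormalP π) {a : A} (ha : a ∈ coinv π)
    (R : Type u) [CommRing R] [Algebra k R] (g₁ g₂ : WithConv (A →ₐ[k] R))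
    (n : WithConv (C →ₐ[k] R)) :
    (g₁ * precomp π n * g₂).ofConv a = (g₁ * g₂).ofConv a := by
  obtain ⟨n', hn'⟩ := hN R g₂⁻¹ n
  have e2 : g₁ * precomp π n * g₂ = (g₁ * g₂) * (g₂⁻¹ * precomp π n * g₂⁻¹⁻¹) := by group
  rw [e2, ← hn']
  exact (mem_coinv_iff π).1 ha R (g₁ * g₂) n'

theorem coinv_mul_right' {a : A} (ha : a ∈ coinv π)
    (R : Type u) [CommRing R] [Algebra k R] (g₁ g₂ : WithConv (A →ₐ[k] R))
    (n : WithConv (C →ₐ[k] R)) :
    (g₁ * (g₂ * precomp π n)).ofConv a = (g₁ * g₂).ofConv a := by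
  rw [← mul_assoc]
  exact (mem_coinv_iff π).1 ha R (g₁ * g₂) n

theorem lTensor_psi_comul {a : A} (ha : a ∈ coinv π) :
    LinearMap.lTensor A (psi π) (comul (R := k) a) = 0 := by
  let ir : A ⊗[k] C →ₐ[k] A ⊗[k] (A ⊗[k] C) := Algebra.TensorProduct.includeRight
  let il : A →ₐ[k] A ⊗[k] (A ⊗[k] C) := Algebra.TensorProduct.includeLeft
  have h1 : toConv ((Algebra.TensorProduct.map (AlgHom.id k A) (alpha π)).comp (comulAlgHom k A)) =
      toConv il * toConv (ir.comp (alpha π)) :=
    map_comp_comul (k := k) (AlgHom.id k A) (alpha π)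
  have h2 : toConv ((Algebra.TensorProduct.map (AlgHom.id k A)
      (beta (k := k) (A := A) (C := C))).comp (comulAlgHom k A)) =
      toConv il * postcomp ir (g₀ (A := A) (C := C)) :=
    map_comp_comul (k := k) (AlgHom.id k A) (beta (k := k) (A := A) (C := C))
  have e1 : toConv (ir.comp (alpha π)) =
      postcomp ir (g₀ (A := A) (C := C)) * precomp π (postcomp ir (n₀ (A := A) (C := C))) :=
    (congrArg (postcomp ir) (alpha_eq π)).trans (map_mul (postcomp ir) _ _)
  have key : (Algebra.TensorProduct.map (AlgHom.id k A) (alpha π)) (comul (R := k) a) =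
      (Algebra.TensorProduct.map (AlgHom.id k A) (beta (k := k) (A := A) (C := C)))
        (comul (R := k) a) := by
    have h3 := coinv_mul_right' π ha _ (toConv il) (postcomp ir (g₀ (A := A) (C := C)))
      (postcomp ir (n₀ (A := A) (C := C)))
    have h5 := congrArg (fun f => f.ofConv a) (h1.trans (congrArg (fun x => toConv il * x) e1))
    have h6 := congrArg (fun f => f.ofConv a) h2
    exact h5.trans (h3.trans h6.symm)
  unfold psi
  rw [LinearMap.lTensor_sub, LinearMap.sub_apply, sub_eq_zero]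
  exact key

theorem rTensor_psi_comul (hN : NormalP π) {a : A} (ha : a ∈ coinv π) :
    LinearMap.rTensor A (psi π) (comul (R := k) a) = 0 := by
  let il : A ⊗[k] C →ₐ[k] (A ⊗[k] C) ⊗[k] A := Algebra.TensorProduct.includeLeft
  let ir : A →ₐ[k] (A ⊗[k] C) ⊗[k] A := Algebra.TensorProduct.includeRight
  have h1 : toConv ((Algebra.TensorProduct.map (alpha π) (AlgHom.id k A)).comp (comulAlgHom k A)) =
      toConv (il.comp (alpha π)) * toConv ir :=
    map_comp_comul (k := k) (alpha π) (AlgHom.id k A)
  have h2 : toConv ((Algebra.TensorProduct.map (beta (k := k) (A := A) (C := C))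
      (AlgHom.id k A)).comp (comulAlgHom k A)) =
      postcomp il (g₀ (A := A) (C := C)) * toConv ir :=
    map_comp_comul (k := k) (beta (k := k) (A := A) (C := C)) (AlgHom.id k A)
  have e1 : toConv (il.comp (alpha π)) =
      postcomp il (g₀ (A := A) (C := C)) * precomp π (postcomp il (n₀ (A := A) (C := C))) :=
    (congrArg (postcomp il) (alpha_eq π)).trans (map_mul (postcomp il) _ _)
  have key : (Algebra.TensorProduct.map (alpha π) (AlgHom.id k A)) (comul (R := k) a) =
      (Algebra.TensorProduct.map (beta (k := k) (A := A) (C := C)) (AlgHom.id k A))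
        (comul (R := k) a) := by
    have h3 := coinv_mul_mid π hN ha _ (postcomp il (g₀ (A := A) (C := C))) (toConv ir)
      (postcomp il (n₀ (A := A) (C := C)))
    have h5 := congrArg (fun f => f.ofConv a) (h1.trans (congrArg (fun x => x * toConv ir) e1))
    have h6 := congrArg (fun f => f.ofConv a) h2
    exact h5.trans (h3.trans h6.symm)
  unfold psi
  rw [LinearMap.rTensor_sub, LinearMap.sub_apply, sub_eq_zero]
  exact key

/-- for a normal subgroup, `Δ` maps coinvariants into `coinv ⊗ coinv` -/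
theorem comul_mem_coinv (hN : NormalP π) {a : A} (ha : a ∈ coinv π) :
    comul (R := k) a ∈ LinearMap.range (TensorProduct.map
      (Subalgebra.toSubmodule (coinv π)).subtype
      (Subalgebra.toSubmodule (coinv π)).subtype) := by
  apply mem_range_map_of_mem
  · exact (Module.Flat.lTensor_exact A (exact_psi π) _).1 (lTensor_psi_comul π ha)
  · exact (Module.Flat.rTensor_exact A (exact_psi π) _).1 (rTensor_psi_comul π hN ha)

/-- **the coinvariants of a normal subgroup form a sub-Hopf-algebra** -/
theorem isSub_coinv (hN : NormalP π) : HopfFF.IsSub (coinv π) := by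
  constructor
  · intro b hb
    obtain ⟨z, hz⟩ := comul_mem_coinv π hN hb
    exact ⟨z, hz⟩
  · intro b hb
    exact antipode_mem_coinv π hN hb

end hopf

end Groth.Agent.Lib.Helper24.HopfNormal
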