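import Mathlib
import Groth.Agent.Lib.Helper24.HopfNormal.CoinvHopf
import Groth.Agent.Lib.Helper24.HopfFF.AugIdeal
import Groth.Agent.Lib.Helper24.HopfFF.Main

/-!
# Helper24 — for a sub-Hopf-algebra `B ⊂ A` (over a field), `A^{co A/AB⁺} = B`
-/

set_option autoImplicit false
universe u v w

open TensorProduct Coalgebra Bialgebra WithConv
open Groth.Agent.Lib.Helper24.HopfFF

namespace Groth.Agent.Lib.Helper24.HopfNormal

section descent

variable {R : Type u} {A : Type v} [CommRing R] [CommRing A] [Algebra R A]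

/-- faithfully flat descent for elements: `a ⊗ 1 = 1 ⊗ a` in `A ⊗[R] A` implies `a ∈ R` -/
theorem mem_range_of_tmul_eq [Module.FaithfullyFlat R A] (a : A)
    (h : a ⊗ₜ[R] (1 : A) = (1 : A) ⊗ₜ[R] a) : a ∈ (algebraMap R A).range := by
  let W : Submodule R A := LinearMap.range (Algebra.linearMap R A)
  have h1 : (1 : A) ∈ W := ⟨1, by simp⟩
  have h2 : TensorProduct.mk R A (A ⧸ W) 1 (W.mkQ a) = 0 := by
    have e1 : TensorProduct.mk R A (A ⧸ W) 1 (W.mkQ a) =
        LinearMap.lTensor A W.mkQ ((1 : A) ⊗ₜ[R] a) := rfl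
    have e2 : W.mkQ (1 : A) = 0 := (Submodule.Quotient.mk_eq_zero W).2 h1
    rw [e1, ← h, LinearMap.lTensor_tmul, e2, TensorProduct.tmul_zero]
  have h3 : W.mkQ a = 0 :=
    Module.FaithfullyFlat.tensorProduct_mk_injective (A := R) (B := A) (A ⧸ W)
      (h2.trans (map_zero _).symm)
  obtain ⟨r, hr⟩ := (Submodule.Quotient.mk_eq_zero W).1 h3
  exact ⟨r, hr⟩

end descent

section quo

variable {k : Type u} {R A : Type u} [Field k] [CommRing R] [CommRing A] [HopfAlgebra k R]
  [HopfAlgebra k A] [Algebra R A] [IsScalarTower k R A] (g : R →ₐc[k] A)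
  (hg : ∀ r, g r = algebraMap R A r) [(augExt k R A).IsHopfIdeal k]

include hg

/-- the quotient map `A → A / R⁺A` kills `R` up to the counit -/
theorem precomp_precomp_mk (T : Type u) [CommRing T] [Algebra k T]
    (n : WithConv (Quo k R A →ₐ[k] T)) :
    precomp g (precomp (Bialgebra.Quotient.mkBialgHom (R := k) (augExt k R A)) n) = 1 := by
  apply WithConv.ofConv_injective
  refine AlgHom.ext fun r => ?_
  change n.ofConv (Ideal.Quotient.mk (augExt k R A) (g r)) = algebraMap k T (counit (R := k) r)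
  rw [hg, mk_algebraMap_eq, AlgHom.commutes]

/-- the image of `R` consists of coinvariants for `A → A / R⁺A` -/
theorem map_mem_coinv (r : R) :
    g r ∈ coinv (Bialgebra.Quotient.mkBialgHom (R := k) (augExt k R A)) := by
  rw [mem_coinv_iff]
  intro T _ _ g' n
  change (precomp g (g' * precomp _ n)).ofConv r = (precomp g g').ofConv r
  rw [map_mul, precomp_precomp_mk g hg, mul_one]

/-- **`A^{co A/R⁺A} = R`** for a faithfully flat `R → A` -/
theorem coinv_quo [Module.FaithfullyFlat R A] :
    coinv (Bialgebra.Quotient.mkBialgHom (R := k) (augExt k R A)) = (g : R →ₐ[k] A).range := by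
  apply le_antisymm
  · intro a ha
    have h1 : alpha (Bialgebra.Quotient.mkBialgHom (R := k) (augExt k R A)) a =
        beta (k := k) (C := Quo k R A) a := ha
    have e1 : rho₀ k R A A = alpha (Bialgebra.Quotient.mkBialgHom (R := k) (augExt k R A)) := by
      have e2 : toConv (rho₀ k R A A) =
          toConv (alpha (Bialgebra.Quotient.mkBialgHom (R := k) (augExt k R A))) := by
        rw [alpha_eq]
        have e3 : p₁ k R A A = (Algebra.TensorProduct.includeLeft : A →ₐ[k] A ⊗[k] Quo k R A) :=
          AlgHom.ext fun x => rfl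
        change toConv (p₁ k R A A) * toConv (p₂ k R A A) = _
        rw [e3]
        rfl
      exact congrArg WithConv.ofConv e2
    have h2 : theta A g hg ((1 : A) ⊗ₜ[R] a) = theta A g hg (a ⊗ₜ[R] (1 : A)) := by
      rw [theta_tmul, theta_tmul, map_one, mul_one, e1, h1]
      change (1 : A ⊗[k] Quo k R A) * _ = _
      rw [one_mul]
      rfl
    have h3 := (theta A g hg).injective h2
    obtain ⟨r, hr⟩ := mem_range_of_tmul_eq a h3.symm
    exact ⟨r, (hg r).trans hr⟩
  · rintro _ ⟨r, rfl⟩
    exact map_mem_coinv g hg r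

end quo

end Groth.Agent.Lib.Helper24.HopfNormal
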